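import Cfsg.Agent.Lib.JTwoUniq.Certs
import Cfsg.Agent.Lib.JTwoUniq.Data.JustC0

/-!
Kernel checks of the justifications C, part 0.
-/

set_option autoImplicit false
set_option maxRecDepth 100000

namespace CfsgLib.JTwoUniq

theorem chkC0 : certC.chunkB 0 Data.jsC0 = true := by decide +kernel

theorem chkC1 : certC.chunkB 128 Data.jsC1 = true := by decide +kernel

theorem chkC2 : certC.chunkB 256 Data.jsC2 = true := by decide +kernel

theorem chkC3 : certC.chunkB 384 Data.jsC3 = true := by decide +kernel

theorem chkC4 : certC.chunkB 512 Data.jsC4 = true := by decide +kernel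

theorem chkC5 : certC.chunkB 640 Data.jsC5 = true := by decide +kernel

theorem chkC6 : certC.chunkB 768 Data.jsC6 = true := by decide +kernel

theorem chkC7 : certC.chunkB 896 Data.jsC7 = true := by decide +kernel

theorem chkC8 : certC.chunkB 1024 Data.jsC8 = true := by decide +kernel

theorem chkC9 : certC.chunkB 1152 Data.jsC9 = true := by decide +kernel

theorem chkC10 : certC.chunkB 1280 Data.jsC10 = true := by decide +kernel

theorem chkC11 : certC.chunkB 1408 Data.jsC11 = true := by decide +kernel

theorem chkC12 : certC.chunkB 1536 Data.jsC12 = true := by decide +kernel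

theorem chkC13 : certC.chunkB 1664 Data.jsC13 = true := by decide +kernel

theorem chkC14 : certC.chunkB 1792 Data.jsC14 = true := by decide +kernel

theorem chkC15 : certC.chunkB 1920 Data.jsC15 = true := by decide +kernel

end CfsgLib.JTwoUniq
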