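import Cfsg.Agent.Lib.JTwoUniq.Certs
import Cfsg.Agent.Lib.JTwoUniq.Data.JustC1

/-!
Kernel checks of the justifications C, part 1.
-/

set_option autoImplicit false
set_option maxRecDepth 100000

namespace CfsgLib.JTwoUniq

theorem chkC16 : certC.chunkB 2048 Data.jsC16 = true := by decide +kernel

theorem chkC17 : certC.chunkB 2176 Data.jsC17 = true := by decide +kernel

theorem chkC18 : certC.chunkB 2304 Data.jsC18 = true := by decide +kernel

end CfsgLib.JTwoUniq
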