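import Cfsg.Agent.Lib.JTwoUniq.Certs
import Cfsg.Agent.Lib.JTwoUniq.Data.JustJ0

/-!
Kernel checks of the justifications J, part 0.
-/

set_option autoImplicit false
set_option maxRecDepth 100000

namespace CfsgLib.JTwoUniq

theorem chkJ0 : certJ.chunkB 0 Data.jsJ0 = true := by decide +kernel

theorem chkJ1 : certJ.chunkB 128 Data.jsJ1 = true := by decide +kernel

theorem chkJ2 : certJ.chunkB 256 Data.jsJ2 = true := by decide +kernel

theorem chkJ3 : certJ.chunkB 384 Data.jsJ3 = true := by decide +kernel

theorem chkJ4 : certJ.chunkB 512 Data.jsJ4 = true := by decide +kernel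

theorem chkJ5 : certJ.chunkB 640 Data.jsJ5 = true := by decide +kernel

theorem chkJ6 : certJ.chunkB 768 Data.jsJ6 = true := by decide +kernel

theorem chkJ7 : certJ.chunkB 896 Data.jsJ7 = true := by decide +kernel

theorem chkJ8 : certJ.chunkB 1024 Data.jsJ8 = true := by decide +kernel

theorem chkJ9 : certJ.chunkB 1152 Data.jsJ9 = true := by decide +kernel

theorem chkJ10 : certJ.chunkB 1280 Data.jsJ10 = true := by decide +kernel

theorem chkJ11 : certJ.chunkB 1408 Data.jsJ11 = true := by decide +kernel

theorem chkJ12 : certJ.chunkB 1536 Data.jsJ12 = true := by decide +kernel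

theorem chkJ13 : certJ.chunkB 1664 Data.jsJ13 = true := by decide +kernel

theorem chkJ14 : certJ.chunkB 1792 Data.jsJ14 = true := by decide +kernel

theorem chkJ15 : certJ.chunkB 1920 Data.jsJ15 = true := by decide +kernel

end CfsgLib.JTwoUniq
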