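import Cfsg.Agent.Lib.JTwoUniq.Certs
import Cfsg.Agent.Lib.JTwoUniq.Data.JustJ1

/-!
Kernel checks of the justifications J, part 1.
-/

set_option autoImplicit false
set_option maxRecDepth 100000

namespace CfsgLib.JTwoUniq

theorem chkJ16 : certJ.chunkB 2048 Data.jsJ16 = true := by decide +kernel

theorem chkJ17 : certJ.chunkB 2176 Data.jsJ17 = true := by decide +kernel

theorem chkJ18 : certJ.chunkB 2304 Data.jsJ18 = true := by decide +kernel

theorem chkJ19 : certJ.chunkB 2432 Data.jsJ19 = true := by decide +kernel

theorem chkJ20 : certJ.chunkB 2560 Data.jsJ20 = true := by decide +kernel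

theorem chkJ21 : certJ.chunkB 2688 Data.jsJ21 = true := by decide +kernel

theorem chkJ22 : certJ.chunkB 2816 Data.jsJ22 = true := by decide +kernel

theorem chkJ23 : certJ.chunkB 2944 Data.jsJ23 = true := by decide +kernel

theorem chkJ24 : certJ.chunkB 3072 Data.jsJ24 = true := by decide +kernel

theorem chkJ25 : certJ.chunkB 3200 Data.jsJ25 = true := by decide +kernel

theorem chkJ26 : certJ.chunkB 3328 Data.jsJ26 = true := by decide +kernel

theorem chkJ27 : certJ.chunkB 3456 Data.jsJ27 = true := by decide +kernel

theorem chkJ28 : certJ.chunkB 3584 Data.jsJ28 = true := by decide +kernel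

theorem chkJ29 : certJ.chunkB 3712 Data.jsJ29 = true := by decide +kernel

theorem chkJ30 : certJ.chunkB 3840 Data.jsJ30 = true := by decide +kernel

theorem chkJ31 : certJ.chunkB 3968 Data.jsJ31 = true := by decide +kernel

end CfsgLib.JTwoUniq
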