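import Cfsg.Agent.Lib.JTwoUniq.Certs
import Cfsg.Agent.Lib.JTwoUniq.Data.JustJ2

/-!
Kernel checks of the justifications J, part 2.
-/

set_option autoImplicit false
set_option maxRecDepth 100000

namespace CfsgLib.JTwoUniq

theorem chkJ32 : certJ.chunkB 4096 Data.jsJ32 = true := by decide +kernel

theorem chkJ33 : certJ.chunkB 4224 Data.jsJ33 = true := by decide +kernel

theorem chkJ34 : certJ.chunkB 4352 Data.jsJ34 = true := by decide +kernel

theorem chkJ35 : certJ.chunkB 4480 Data.jsJ35 = true := by decide +kernel

theorem chkJ36 : certJ.chunkB 4608 Data.jsJ36 = true := by decide +kernel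

theorem chkJ37 : certJ.chunkB 4736 Data.jsJ37 = true := by decide +kernel

theorem chkJ38 : certJ.chunkB 4864 Data.jsJ38 = true := by decide +kernel

theorem chkJ39 : certJ.chunkB 4992 Data.jsJ39 = true := by decide +kernel

theorem chkJ40 : certJ.chunkB 5120 Data.jsJ40 = true := by decide +kernel

theorem chkJ41 : certJ.chunkB 5248 Data.jsJ41 = true := by decide +kernel

theorem chkJ42 : certJ.chunkB 5376 Data.jsJ42 = true := by decide +kernel

theorem chkJ43 : certJ.chunkB 5504 Data.jsJ43 = true := by decide +kernel

theorem chkJ44 : certJ.chunkB 5632 Data.jsJ44 = true := by decide +kernel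

theorem chkJ45 : certJ.chunkB 5760 Data.jsJ45 = true := by decide +kernel

theorem chkJ46 : certJ.chunkB 5888 Data.jsJ46 = true := by decide +kernel

theorem chkJ47 : certJ.chunkB 6016 Data.jsJ47 = true := by decide +kernel

end CfsgLib.JTwoUniq
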