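import Cfsg.Agent.Lib.JTwoUniq.Certs
import Cfsg.Agent.Lib.JTwoUniq.Data.JustJ3

/-!
Kernel checks of the justifications J, part 3.
-/

set_option autoImplicit false
set_option maxRecDepth 100000

namespace CfsgLib.JTwoUniq

theorem chkJ48 : certJ.chunkB 6144 Data.jsJ48 = true := by decide +kernel

theorem chkJ49 : certJ.chunkB 6272 Data.jsJ49 = true := by decide +kernel

theorem chkJ50 : certJ.chunkB 6400 Data.jsJ50 = true := by decide +kernel

theorem chkJ51 : certJ.chunkB 6528 Data.jsJ51 = true := by decide +kernel

theorem chkJ52 : certJ.chunkB 6656 Data.jsJ52 = true := by decide +kernel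

theorem chkJ53 : certJ.chunkB 6784 Data.jsJ53 = true := by decide +kernel

theorem chkJ54 : certJ.chunkB 6912 Data.jsJ54 = true := by decide +kernel

theorem chkJ55 : certJ.chunkB 7040 Data.jsJ55 = true := by decide +kernel

theorem chkJ56 : certJ.chunkB 7168 Data.jsJ56 = true := by decide +kernel

theorem chkJ57 : certJ.chunkB 7296 Data.jsJ57 = true := by decide +kernel

theorem chkJ58 : certJ.chunkB 7424 Data.jsJ58 = true := by decide +kernel

theorem chkJ59 : certJ.chunkB 7552 Data.jsJ59 = true := by decide +kernel

theorem chkJ60 : certJ.chunkB 7680 Data.jsJ60 = true := by decide +kernel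

theorem chkJ61 : certJ.chunkB 7808 Data.jsJ61 = true := by decide +kernel

theorem chkJ62 : certJ.chunkB 7936 Data.jsJ62 = true := by decide +kernel

theorem chkJ63 : certJ.chunkB 8064 Data.jsJ63 = true := by decide +kernel

end CfsgLib.JTwoUniq
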