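import Cfsg.Agent.Lib.JTwoUniq.Certs
import Cfsg.Agent.Lib.JTwoUniq.Data.JustJ4

/-!
Kernel checks of the justifications J, part 4.
-/

set_option autoImplicit false
set_option maxRecDepth 100000

namespace CfsgLib.JTwoUniq

theorem chkJ64 : certJ.chunkB 8192 Data.jsJ64 = true := by decide +kernel

theorem chkJ65 : certJ.chunkB 8320 Data.jsJ65 = true := by decide +kernel

theorem chkJ66 : certJ.chunkB 8448 Data.jsJ66 = true := by decide +kernel

theorem chkJ67 : certJ.chunkB 8576 Data.jsJ67 = true := by decide +kernel

theorem chkJ68 : certJ.chunkB 8704 Data.jsJ68 = true := by decide +kernel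

theorem chkJ69 : certJ.chunkB 8832 Data.jsJ69 = true := by decide +kernel

theorem chkJ70 : certJ.chunkB 8960 Data.jsJ70 = true := by decide +kernel

theorem chkJ71 : certJ.chunkB 9088 Data.jsJ71 = true := by decide +kernel

theorem chkJ72 : certJ.chunkB 9216 Data.jsJ72 = true := by decide +kernel

theorem chkJ73 : certJ.chunkB 9344 Data.jsJ73 = true := by decide +kernel

theorem chkJ74 : certJ.chunkB 9472 Data.jsJ74 = true := by decide +kernel

theorem chkJ75 : certJ.chunkB 9600 Data.jsJ75 = true := by decide +kernel

theorem chkJ76 : certJ.chunkB 9728 Data.jsJ76 = true := by decide +kernel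

theorem chkJ77 : certJ.chunkB 9856 Data.jsJ77 = true := by decide +kernel

theorem chkJ78 : certJ.chunkB 9984 Data.jsJ78 = true := by decide +kernel

theorem chkJ79 : certJ.chunkB 10112 Data.jsJ79 = true := by decide +kernel

end CfsgLib.JTwoUniq
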