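import Cfsg.Agent.Lib.JTwoUniq.Certs
import Cfsg.Agent.Lib.JTwoUniq.Data.JustJ5

/-!
Kernel checks of the justifications J, part 5.
-/

set_option autoImplicit false
set_option maxRecDepth 100000

namespace CfsgLib.JTwoUniq

theorem chkJ80 : certJ.chunkB 10240 Data.jsJ80 = true := by decide +kernel

theorem chkJ81 : certJ.chunkB 10368 Data.jsJ81 = true := by decide +kernel

theorem chkJ82 : certJ.chunkB 10496 Data.jsJ82 = true := by decide +kernel

theorem chkJ83 : certJ.chunkB 10624 Data.jsJ83 = true := by decide +kernel

theorem chkJ84 : certJ.chunkB 10752 Data.jsJ84 = true := by decide +kernel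

theorem chkJ85 : certJ.chunkB 10880 Data.jsJ85 = true := by decide +kernel

theorem chkJ86 : certJ.chunkB 11008 Data.jsJ86 = true := by decide +kernel

theorem chkJ87 : certJ.chunkB 11136 Data.jsJ87 = true := by decide +kernel

theorem chkJ88 : certJ.chunkB 11264 Data.jsJ88 = true := by decide +kernel

theorem chkJ89 : certJ.chunkB 11392 Data.jsJ89 = true := by decide +kernel

theorem chkJ90 : certJ.chunkB 11520 Data.jsJ90 = true := by decide +kernel

theorem chkJ91 : certJ.chunkB 11648 Data.jsJ91 = true := by decide +kernel

theorem chkJ92 : certJ.chunkB 11776 Data.jsJ92 = true := by decide +kernel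

theorem chkJ93 : certJ.chunkB 11904 Data.jsJ93 = true := by decide +kernel

theorem chkJ94 : certJ.chunkB 12032 Data.jsJ94 = true := by decide +kernel

theorem chkJ95 : certJ.chunkB 12160 Data.jsJ95 = true := by decide +kernel

end CfsgLib.JTwoUniq
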