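import Cfsg.Agent.Lib.JTwoUniq.Certs
import Cfsg.Agent.Lib.JTwoUniq.Data.JustJ6

/-!
Kernel checks of the justifications J, part 6.
-/

set_option autoImplicit false
set_option maxRecDepth 100000

namespace CfsgLib.JTwoUniq

theorem chkJ96 : certJ.chunkB 12288 Data.jsJ96 = true := by decide +kernel

theorem chkJ97 : certJ.chunkB 12416 Data.jsJ97 = true := by decide +kernel

theorem chkJ98 : certJ.chunkB 12544 Data.jsJ98 = true := by decide +kernel

end CfsgLib.JTwoUniq
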