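import Cfsg.Agent.Lib.JTwoUniq.Certs
import Cfsg.Agent.Lib.JTwoUniq.Data.JustK0

/-!
Kernel checks of the justifications K, part 0.
-/

set_option autoImplicit false
set_option maxRecDepth 100000

namespace CfsgLib.JTwoUniq

theorem chkK0 : certK.chunkB 0 Data.jsK0 = true := by decide +kernel

theorem chkK1 : certK.chunkB 128 Data.jsK1 = true := by decide +kernel

theorem chkK2 : certK.chunkB 256 Data.jsK2 = true := by decide +kernel

theorem chkK3 : certK.chunkB 384 Data.jsK3 = true := by decide +kernel

theorem chkK4 : certK.chunkB 512 Data.jsK4 = true := by decide +kernel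

theorem chkK5 : certK.chunkB 640 Data.jsK5 = true := by decide +kernel

theorem chkK6 : certK.chunkB 768 Data.jsK6 = true := by decide +kernel

theorem chkK7 : certK.chunkB 896 Data.jsK7 = true := by decide +kernel

theorem chkK8 : certK.chunkB 1024 Data.jsK8 = true := by decide +kernel

theorem chkK9 : certK.chunkB 1152 Data.jsK9 = true := by decide +kernel

theorem chkK10 : certK.chunkB 1280 Data.jsK10 = true := by decide +kernel

theorem chkK11 : certK.chunkB 1408 Data.jsK11 = true := by decide +kernel

theorem chkK12 : certK.chunkB 1536 Data.jsK12 = true := by decide +kernel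

theorem chkK13 : certK.chunkB 1664 Data.jsK13 = true := by decide +kernel

theorem chkK14 : certK.chunkB 1792 Data.jsK14 = true := by decide +kernel

theorem chkK15 : certK.chunkB 1920 Data.jsK15 = true := by decide +kernel

end CfsgLib.JTwoUniq
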