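import Cfsg.Agent.Lib.JTwoUniq.Certs
import Cfsg.Agent.Lib.JTwoUniq.Data.JustK1

/-!
Kernel checks of the justifications K, part 1.
-/

set_option autoImplicit false
set_option maxRecDepth 100000

namespace CfsgLib.JTwoUniq

theorem chkK16 : certK.chunkB 2048 Data.jsK16 = true := by decide +kernel

theorem chkK17 : certK.chunkB 2176 Data.jsK17 = true := by decide +kernel

theorem chkK18 : certK.chunkB 2304 Data.jsK18 = true := by decide +kernel

end CfsgLib.JTwoUniq
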