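import Cfsg.Agent.Lib.JTwoUniq.Certs
import Cfsg.Agent.Lib.JTwoUniq.Data.JustQ0

/-!
Kernel checks of the justifications Q, part 0.
-/

set_option autoImplicit false
set_option maxRecDepth 100000

namespace CfsgLib.JTwoUniq

theorem chkQ0 : certQ.chunkB 0 Data.jsQ0 = true := by decide +kernel

theorem chkQ1 : certQ.chunkB 128 Data.jsQ1 = true := by decide +kernel

end CfsgLib.JTwoUniq
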